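import Groth.Agent.ProjBd.K42.RHZ
import Groth.Agent.CohqB.AffIso
import Groth.Agent.Divis.StalkMod

/-!
# Base change of `f_* L` along an arbitrary morphism

* `bcq_paste`: pasting of the comparison `bcq`.
* `isIso_bc`: if `K42.RHZ.Good f L hV` for all affine opens `V` of the base, the base change map
  `g^* f_* L ⟶ f'_* g'^* L` is an isomorphism for every cartesian square.
-/

set_option autoImplicit false
universe u
open CategoryTheory CategoryTheory.Limits AlgebraicGeometry TopologicalSpace Opposite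

namespace K980.BCIso

open Groth.Agent.Fdesc.LocGen Groth.Agent Groth.Agent.Krr.H484.PBTransport Groth.Agent.Krr.H484.PullExt
open K42 K42.RHZ

variable {C B C' B' D D' : Scheme.{u}}

/-- Morphisms out of `a^* b^* c^* E` are determined by their values on pulled back sections. -/
theorem ext3 {T Y Z X : Scheme.{u}} (a : T ⟶ Y) (b : Y ⟶ Z) (c : Z ⟶ X) {E : X.Modules} {L : T.Modules}
    {ψ ψ' : (Scheme.Modules.pullback a).obj ((Scheme.Modules.pullback b).obj
      ((Scheme.Modules.pullback c).obj E)) ⟶ L}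
    (h : ∀ (V : X.Opens) (m : Γ(E, V)), ψ.app (a ⁻¹ᵁ (b ⁻¹ᵁ (c ⁻¹ᵁ V))) (pullSec a (pullSec b (pullSec c m))) =
      ψ'.app (a ⁻¹ᵁ (b ⁻¹ᵁ (c ⁻¹ᵁ V))) (pullSec a (pullSec b (pullSec c m)))) : ψ = ψ' := by
  rw [← cancel_epi ((Scheme.Modules.pullbackComp a b).inv.app ((Scheme.Modules.pullback c).obj E))]
  apply ext2
  intro V m
  have h1 := comp_inv_pullSec a b (pullSec c m)
  have h2 := h V m
  rw [← h1] at h2
  exact h2

/-- **Pasting of base change maps.** -/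
theorem bcq_paste {f : C ⟶ B} {g : B' ⟶ B} {f' : C' ⟶ B'} {g' : C' ⟶ C} (w : g' ≫ f = f' ≫ g)
    {j : D' ⟶ B'} {p : D ⟶ D'} {i : D ⟶ C'} (w₁ : i ≫ f' = p ≫ j) (w₂ : (i ≫ g') ≫ f = p ≫ j ≫ g)
    {E : B.Modules} {L : C.Modules} (q : (Scheme.Modules.pullback f).obj E ⟶ L) :
    (Scheme.Modules.pullback p).map ((Scheme.Modules.pullbackComp j g).hom.app E) ≫ bcq w₂ q =
      bcq w₁ (bcq w q) ≫ (Scheme.Modules.pullbackComp i g').hom.app L := by
  apply ext3
  intro V m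
  have a1 := pullback_map_pullSec p ((Scheme.Modules.pullbackComp j g).hom.app E) (pullSec j (pullSec g m))
  have a2 := comp_hom_pullSec j g m
  have a3 := bcq_pullSec w₂ q (V := V) m
  have b1 := bcq_pullSec w₁ (bcq w q) (V := g ⁻¹ᵁ V) (pullSec g m)
  have b2 := bcq_pullSec w q (V := V) m
  have l1 : ((Scheme.Modules.pullback p).map ((Scheme.Modules.pullbackComp j g).hom.app E) ≫ bcq w₂ q).app
      (p ⁻¹ᵁ (j ⁻¹ᵁ (g ⁻¹ᵁ V))) (pullSec p (pullSec j (pullSec g m))) =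
      res _ (preimage_le w₂.symm V : (p ≫ j ≫ g) ⁻¹ᵁ V ≤ ((i ≫ g') ≫ f) ⁻¹ᵁ V)
        (pullSec (i ≫ g') (q.app (f ⁻¹ᵁ V) (pullSec f m))) := by
    refine Eq.trans ?_ a3
    refine congrArg ((bcq w₂ q).app (p ⁻¹ᵁ (j ⁻¹ᵁ (g ⁻¹ᵁ V)))) (a1.trans ?_)
    exact congrArg (pullSec p) a2
  refine l1.trans ?_
  have r1 : (bcq w₁ (bcq w q) ≫ (Scheme.Modules.pullbackComp i g').hom.app L).app
      (p ⁻¹ᵁ (j ⁻¹ᵁ (g ⁻¹ᵁ V))) (pullSec p (pullSec j (pullSec g m))) =
      ((Scheme.Modules.pullbackComp i g').hom.app L).app (p ⁻¹ᵁ (j ⁻¹ᵁ (g ⁻¹ᵁ V)))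
        ((bcq w₁ (bcq w q)).app (p ⁻¹ᵁ (j ⁻¹ᵁ (g ⁻¹ᵁ V))) (pullSec p (pullSec j (pullSec g m)))) := rfl
  rw [r1, b1]
  have b3 : pullSec i ((bcq w q).app (f' ⁻¹ᵁ (g ⁻¹ᵁ V)) (pullSec f' (pullSec g m))) =
      res _ (i.preimage_mono (preimage_le w.symm V : (f' ≫ g) ⁻¹ᵁ V ≤ (g' ≫ f) ⁻¹ᵁ V))
        (pullSec i (pullSec g' (q.app (f ⁻¹ᵁ V) (pullSec f m)))) := by
    refine (congrArg (pullSec i) b2).trans ?_
    exact (res_pullSec i (preimage_le w.symm V : (f' ≫ g) ⁻¹ᵁ V ≤ (g' ≫ f) ⁻¹ᵁ V) _).symm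
  refine Eq.trans ?_ (congrArg (((Scheme.Modules.pullbackComp i g').hom.app L).app (p ⁻¹ᵁ (j ⁻¹ᵁ (g ⁻¹ᵁ V))))
    (congrArg (res _ (preimage_le w₁.symm (g ⁻¹ᵁ V) : (p ≫ j) ⁻¹ᵁ (g ⁻¹ᵁ V) ≤ (i ≫ f') ⁻¹ᵁ (g ⁻¹ᵁ V))) b3)).symm
  refine Eq.trans ?_ (congrArg (((Scheme.Modules.pullbackComp i g').hom.app L).app (p ⁻¹ᵁ (j ⁻¹ᵁ (g ⁻¹ᵁ V))))
    (res_res _ _ _ _)).symm
  refine Eq.trans ?_ (app_res ((Scheme.Modules.pullbackComp i g').hom.app L) _ _).symm
  refine congrArg (res _ _) ?_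
  exact (comp_hom_pullSec i g' _).symm

/-- The base change property for a morphism with affine source landing in `V`. -/
theorem good_bc {f : C ⟶ B} {L : C.Modules} {V : B.Opens} {hV : IsAffineOpen V} (G : Good f L hV)
    {R : CommRingCat.{u}} (φ : Γ(B, V) ⟶ R) (t : Spec R ⟶ B) (ht : Spec.map φ ≫ hV.fromSpec = t)
    {D : Scheme.{u}} {a : D ⟶ C} {p : D ⟶ Spec R} (sq : IsPullback a p f t) :
    Function.Bijective (fun m : Γ((Scheme.Modules.pullback t).obj ((Scheme.Modules.pushforward f).obj L), ⊤) =>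
        (bcq sq.w ((Scheme.Modules.pullbackPushforwardAdjunction f).counit.app L)).app ⊤
          (pullSec p (U := ⊤) m)) := by
  subst ht
  exact G.bc R φ D a p sq

theorem res_bijective {X : Scheme.{u}} (M : X.Modules) {U V : X.Opens} (h : U = V) (hle : V ≤ U) :
    Function.Bijective (res M hle) := by
  subst h
  exact ⟨fun a b hab => by simpa using hab, fun a => ⟨a, by simp⟩⟩

section sq

variable {f : C ⟶ B} {L : C.Modules} {g : B' ⟶ B} {f' : C' ⟶ B'} {g' : C' ⟶ C} (sq : IsPullback g' f' f g)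

include sq in
/-- The base change map is bijective over an affine open mapping into an affine open. -/
theorem bijective_of_good {V : B.Opens} {hV : IsAffineOpen V} (G : Good f L hV) {W : B'.Opens}
    (hW : IsAffineOpen W) (hWV : W ≤ g ⁻¹ᵁ V) :
    Function.Bijective (fun m : Γ((Scheme.Modules.pullback g).obj ((Scheme.Modules.pushforward f).obj L), W) =>
      (bcq sq.w ((Scheme.Modules.pullbackPushforwardAdjunction f).counit.app L)).app (f' ⁻¹ᵁ W)
        (pullSec f' m)) := by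
  let E := (Scheme.Modules.pushforward f).obj L
  let q : (Scheme.Modules.pullback f).obj E ⟶ L := (Scheme.Modules.pullbackPushforwardAdjunction f).counit.app L
  let j := hW.fromSpec
  let i := (f' ⁻¹ᵁ W).ι
  let p := pV f' hW
  have sq1 : IsPullback i p f' j := Ega3B.EtPoint.isPullback_fromSpec f' hW
  have sq2 : IsPullback (i ≫ g') p f (j ≫ g) := sq1.paste_horiz sq
  have hΘ := good_bc G (g.appLE V W hWV) (j ≫ g) (IsAffineOpen.SpecMap_appLE_fromSpec g hV hW hWV) sq2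
  have hj : ⊤ ≤ j ⁻¹ᵁ W := by rw [show j ⁻¹ᵁ W = ⊤ from hW.fromSpec_preimage_self]
  have hi : ⊤ ≤ i ⁻¹ᵁ (f' ⁻¹ᵁ W) := by
    rw [show i ⁻¹ᵁ (f' ⁻¹ᵁ W) = ⊤ from Scheme.Opens.ι_preimage_self _]
  -- `α`
  let α : Γ((Scheme.Modules.pullback g).obj E, W) → Γ((Scheme.Modules.pullback (j ≫ g)).obj E, ⊤) :=
    fun m => res _ hj (((Scheme.Modules.pullbackComp j g).hom.app E).app (j ⁻¹ᵁ W) (pullSec j m))
  have hα : Function.Bijective α := by
    refine (res_bijective _ hW.fromSpec_preimage_self hj).comp (Function.Bijective.comp ?_ ?_)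
    · exact ConcreteCategory.bijective_of_isIso (((Scheme.Modules.pullbackComp j g).hom.app E).app (j ⁻¹ᵁ W))
    · exact K43.VACoprod.bijective_pullSec (j := j) (by rw [hW.opensRange_fromSpec])
  -- `β`
  let β : Γ((Scheme.Modules.pullback g').obj L, f' ⁻¹ᵁ W) → Γ((Scheme.Modules.pullback (i ≫ g')).obj L, ⊤) :=
    fun y => res _ hi (((Scheme.Modules.pullbackComp i g').hom.app L).app (i ⁻¹ᵁ (f' ⁻¹ᵁ W)) (pullSec i y))
  have hβ : Function.Bijective β := by
    refine (res_bijective _ (Scheme.Opens.ι_preimage_self _) hi).comp (Function.Bijective.comp ?_ ?_)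
    · exact ConcreteCategory.bijective_of_isIso
        (((Scheme.Modules.pullbackComp i g').hom.app L).app (i ⁻¹ᵁ (f' ⁻¹ᵁ W)))
    · exact K43.VACoprod.bijective_pullSec (j := i) (by rw [Scheme.Opens.opensRange_ι])
  rw [← Function.Bijective.of_comp_iff' hβ]
  have key : β ∘ (fun m : Γ((Scheme.Modules.pullback g).obj E, W) =>
      (bcq sq.w q).app (f' ⁻¹ᵁ W) (pullSec f' m)) =
      (fun m : Γ((Scheme.Modules.pullback (j ≫ g)).obj E, ⊤) =>
        (bcq sq2.w q).app ⊤ (pullSec p (U := ⊤) m)) ∘ α := by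
    funext m
    change res _ hi (((Scheme.Modules.pullbackComp i g').hom.app L).app (i ⁻¹ᵁ (f' ⁻¹ᵁ W)) (pullSec i
      ((bcq sq.w q).app (f' ⁻¹ᵁ W) (pullSec f' m)))) = (bcq sq2.w q).app ⊤ (pullSec p (U := ⊤)
        (res _ hj (((Scheme.Modules.pullbackComp j g).hom.app E).app (j ⁻¹ᵁ W) (pullSec j m))))
    have c1 := bcq_pullSec sq1.w (bcq sq.w q) (V := W) m
    have c2 := congr(($(bcq_paste sq.w sq1.w sq2.w q)).app (p ⁻¹ᵁ (j ⁻¹ᵁ W)) (pullSec p (pullSec j m)))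
    have c3 := pullback_map_pullSec p ((Scheme.Modules.pullbackComp j g).hom.app E) (pullSec j m)
    have hp : ⊤ ≤ p ⁻¹ᵁ (j ⁻¹ᵁ W) := p.preimage_mono hj
    have d1 : (bcq sq2.w q).app ⊤ (pullSec p (U := ⊤)
        (res _ hj (((Scheme.Modules.pullbackComp j g).hom.app E).app (j ⁻¹ᵁ W) (pullSec j m)))) =
        res _ hp ((bcq sq2.w q).app (p ⁻¹ᵁ (j ⁻¹ᵁ W)) (pullSec p
          (((Scheme.Modules.pullbackComp j g).hom.app E).app (j ⁻¹ᵁ W) (pullSec j m)))) := by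
      have e1 := res_pullSec p hj (((Scheme.Modules.pullbackComp j g).hom.app E).app (j ⁻¹ᵁ W) (pullSec j m))
      refine (congrArg ((bcq sq2.w q).app ⊤) e1.symm).trans ?_
      exact app_res (bcq sq2.w q) hp _
    rw [d1]
    have d2 : (bcq sq2.w q).app (p ⁻¹ᵁ (j ⁻¹ᵁ W)) (pullSec p
          (((Scheme.Modules.pullbackComp j g).hom.app E).app (j ⁻¹ᵁ W) (pullSec j m))) =
        ((Scheme.Modules.pullbackComp i g').hom.app L).app (p ⁻¹ᵁ (j ⁻¹ᵁ W))
          (res _ (preimage_le sq1.w.symm W) (pullSec i ((bcq sq.w q).app (f' ⁻¹ᵁ W) (pullSec f' m)))) := by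
      refine Eq.trans ?_ (congrArg (((Scheme.Modules.pullbackComp i g').hom.app L).app (p ⁻¹ᵁ (j ⁻¹ᵁ W))) c1)
      refine Eq.trans ?_ c2
      exact congrArg ((bcq sq2.w q).app (p ⁻¹ᵁ (j ⁻¹ᵁ W))) c3.symm
    rw [d2]
    refine Eq.trans ?_ (congrArg (res _ hp) (app_res ((Scheme.Modules.pullbackComp i g').hom.app L) _ _)).symm
    exact (res_res _ _ _ _).symm
  rw [key]
  exact hΘ.comp hα

include sq in
/-- **Base change.** -/
theorem isIso_bc (hE : Coh.IsQCoh ((Scheme.Modules.pushforward f).obj L)) (hL : Coh.IsQCoh L)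
    [QuasiCompact f] [QuasiSeparated f]
    (G : ∀ {V : B.Opens} (hV : IsAffineOpen V), Good f L hV) :
    IsIso (((Scheme.Modules.pullbackPushforwardAdjunction f').homEquiv _ _)
      (bcq sq.w ((Scheme.Modules.pullbackPushforwardAdjunction f).counit.app L))) := by
  have i1 : QuasiCompact f' := MorphismProperty.of_isPullback sq ‹_›
  have i2 : QuasiSeparated f' := MorphismProperty.of_isPullback sq ‹_›
  have q1 : Coh.IsQCoh ((Scheme.Modules.pullback g).obj ((Scheme.Modules.pushforward f).obj L)) :=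
    FormalA.PullbackQC.isQCoh_pullback _ _ hE
  have q2 : Coh.IsQCoh ((Scheme.Modules.pushforward f').obj ((Scheme.Modules.pullback g').obj L)) :=
    Ega1.QcqsPush.isQCoh_pushforward f' _ (FormalA.PullbackQC.isQCoh_pullback _ _ hL)
  refine @CohqB.AffIso.isIso_of_affine_cover _ _ _ q1 q2 _ fun x => ?_
  obtain ⟨V, hV, hxV⟩ := Groth.Agent.Divis.StalkMod.exists_affine (g x)
  obtain ⟨W, hW, hxW, hWV⟩ := exists_isAffineOpen_mem_and_subset (U := g ⁻¹ᵁ V) hxV
  refine ⟨W, hxW, hW, ?_⟩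
  have h := bijective_of_good sq (G hV) hW hWV
  have key : (fun m : Γ((Scheme.Modules.pullback g).obj ((Scheme.Modules.pushforward f).obj L), W) =>
      (((Scheme.Modules.pullbackPushforwardAdjunction f').homEquiv _ _)
        (bcq sq.w ((Scheme.Modules.pullbackPushforwardAdjunction f).counit.app L))).app W m) =
      (fun m => (bcq sq.w ((Scheme.Modules.pullbackPushforwardAdjunction f).counit.app L)).app (f' ⁻¹ᵁ W)
        (pullSec f' m)) := funext fun m => homEquiv_app f' _ m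
  rw [← key] at h
  exact h

end sq

end K980.BCIso
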