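import Groth.Agent.ProjBd.K980.VerFib
import Groth.Agent.VBPn.K699.Euler
import Groth.Agent.VBPn.K699.KoszulP1
import Groth.Agent.Vancyc.H878.RelOmega
import Groth.Agent.CurvSt.K896.TailBridge
import Groth.Agent.Dix.IdealModCartier
import Groth.Agent.Fga.PicMon
import Groth.Agent.CurvesC.NodalPos
import Groth.Agent.CurvesA.HHMap

/-!
# The geometric fibres of a conic bundle with its anticanonical module are `(P^1, O(2))`
-/

set_option autoImplicit false
universe u
open CategoryTheory CategoryTheory.Limits AlgebraicGeometry TopologicalSpace Opposite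

namespace K980.ConicFib

open Groth.Agent Groth.Agent.Ega2 VerFib

/-- `Ω` of the projective line. -/
theorem omega_P1 (k : Type u) [Field k] :
    Nonempty (Omega.sheaf (CohB1.ProjSpace.toSpec 1 k) ≅ Twist.twistProjSpace 1 k (-2)) := by
  obtain ⟨e'⟩ := K699.Euler.nonempty_omega_iso 1 k
  have hK := K699.KoszulP1.shortExact (R := k) (show (-2 : ℤ) + (1 : ℕ) = -1 by simp) K699.Euler.hneg
  have hm := hK.mono_f
  exact ⟨Iso.trans (C := (CohB1.ProjSpace 1 k).Modules) e'
    (IsLimit.conePointUniqueUpToIso hK.fIsKernel (kernelIsKernel _)).symm⟩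

theorem isInverseOf_twist (k : Type u) [Field k] (r : ℕ) {a b : ℤ} (h0 : a + b = 0) :
    ClSub.IsInverseOf (Twist.twistProjSpace r k a) (Twist.twistProjSpace r k b) := by
  have h1 := TwistInv.isIso_mulHom (VeryAmpleAmple.coveredByOne_poly (n := r) (R := k)) h0
  obtain ⟨e⟩ := TwistInv.nonempty_unit_iso (CohB1.polyGrading r k)
  exact ⟨@asIso _ _ _ _ (TwistMul.mulHom (CohB1.polyGrading r k) h0) h1 ≪≫ e.symm⟩

variable {X Y : Scheme.{u}}

/-- Pullback preserves inverses. -/
theorem isInverseOf_pullback (f : Y ⟶ X) {L M : X.Modules} (h : ClSub.IsInverseOf L M) :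
    ClSub.IsInverseOf ((Scheme.Modules.pullback f).obj L) ((Scheme.Modules.pullback f).obj M) := by
  obtain ⟨hL, hM⟩ := Dix.IdealModCartier.isInvertible_of_isInverseOf h
  obtain ⟨e⟩ := h
  obtain ⟨e'⟩ := Dix.IdealModCartier.pullback_tensorMod f hL hM
  exact ⟨e'.symm ≪≫ (Scheme.Modules.pullback f).mapIso e ≪≫ CurvesA.HHMap.pullbackUnit f⟩

/-- Inverses are unique, up to isomorphisms of the module inverted. -/
theorem nonempty_iso {L L' M M' : X.Modules} (h : ClSub.IsInverseOf L M) (h' : ClSub.IsInverseOf L' M')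
    (e : Nonempty (M ≅ M')) : Nonempty (L ≅ L') := by
  unfold ClSub.IsInverseOf at h h'
  rw [← Fga.PicMon.mc_eq_iff, Fga.PicMon.mc_tensor, Fga.PicMon.mc_one] at h h'
  rw [← Fga.PicMon.mc_eq_iff] at e ⊢
  rw [← e] at h'
  calc Fga.PicMon.mc L = Fga.PicMon.mc L * (Fga.PicMon.mc L' * Fga.PicMon.mc M) := by rw [h', mul_one]
    _ = Fga.PicMon.mc L' * (Fga.PicMon.mc L * Fga.PicMon.mc M) := by ac_rfl
    _ = Fga.PicMon.mc L' := by rw [h, mul_one]

/-- The geometric fibres of a family of genus zero curves with the anticanonical module are `(P^1, O(2))`. -/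
theorem fibPd {C S : Scheme.{u}} (π : C ⟶ S) [IsProper π]
    (hfib : ∀ (K : Type u) [Field K] [IsAlgClosed K] (x : Spec (CommRingCat.of K) ⟶ S),
      IsIntegral (pullback π x) ∧ topologicalKrullDim ↥(pullback π x) = 1 ∧
        @Curv2.genus K _ (pullback π x) ⟨pullback.snd π x⟩ = 0)
    (T : C.Modules) (hT : ClSub.IsInverseOf T (Omega.sheaf π)) (b : S) : FibPd π T 1 2 b := by
  let K : Type u := AlgebraicClosure (S.residueField b)
  let x : Spec (CommRingCat.of K) ⟶ S :=
    Spec.map (CommRingCat.ofHom (algebraMap (S.residueField b) K)) ≫ S.fromSpecResidueField b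
  obtain ⟨hI, hdim, hg⟩ := hfib K x
  let _ : (pullback π x).Over (Spec (CommRingCat.of K)) := ⟨pullback.snd π x⟩
  have i1 : IsProper (pullback π x ↘ Spec (CommRingCat.of K)) :=
    (inferInstance : IsProper (pullback.snd π x))
  have h1 : Subsingleton (Coh.HH (pullback π x) (Coh.structureModule (pullback π x)) 1) :=
    CurvesC.NodalPos.subsingleton_of_genus_zero (k := K) (X := pullback π x) hg
  obtain ⟨e, he⟩ := K896.TailBridge.exists_iso_P1 K (pullback π x) hdim h1
  have he' : e.inv ≫ pullback.snd π x = CohB1.ProjSpace.toSpec 1 K := by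
    rw [Iso.inv_comp_eq]
    exact he.symm
  have sq : IsPullback (e.inv ≫ pullback.fst π x) (CohB1.ProjSpace.toSpec 1 K) π x :=
    IsPullback.of_iso_pullback ⟨by rw [Category.assoc, pullback.condition, ← he', Category.assoc]⟩ e.symm rfl he'
  refine ⟨K, inferInstance, x, e.inv ≫ pullback.fst π x, fun y => ?_, sq, ?_⟩
  · change (Spec.map (CommRingCat.ofHom (algebraMap (S.residueField b) K)) ≫ S.fromSpecResidueField b) y = b
    rw [Scheme.Hom.comp_apply, Scheme.fromSpecResidueField_apply]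
  · refine nonempty_iso (isInverseOf_pullback (e.inv ≫ pullback.fst π x) hT)
      (isInverseOf_twist K 1 (show (2 : ℤ) + (-2) = 0 by norm_num)) ?_
    obtain ⟨e₁⟩ := omega_P1 K
    exact ⟨Vancyc.H878.RelOmega.omegaBC sq ≪≫ e₁⟩

end K980.ConicFib
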