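import Groth.Agent.ProjBd.K42.FibPn

/-!
# `f_* L` over affine opens of the base, when `H¹` of `L` on the fibres vanishes
-/

set_option autoImplicit false
universe u
open CategoryTheory CategoryTheory.Limits AlgebraicGeometry TopologicalSpace Opposite TensorProduct

namespace K980.FibV

open Groth.Agent.Fdesc.LocGen Groth.Agent Groth.Agent.Krr.H484.PBTransport Groth.Agent.Krr.H484.PullExt
open K42 K42.RHZ K42.FibPn

variable {C B X : Scheme.{u}}

/-- Over a field extension of the residue field of `b`, `H¹` of the fibre of `L` vanishes. -/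
def FibV (f : C ⟶ B) (L : C.Modules) (b : B) : Prop :=
  ∃ (K : Type u) (_ : Field K) (t : Spec (CommRingCat.of K) ⟶ B) (C' : Scheme.{u}) (g : C' ⟶ C)
    (f' : C' ⟶ Spec (CommRingCat.of K)),
    (∀ x, t x = b) ∧ IsPullback g f' f t ∧ Subsingleton (Coh.HH C' ((Scheme.Modules.pullback g).obj L) 1)

theorem h1Zero (f : C ⟶ B) (L : C.Modules) {V : B.Opens} (hV : IsAffineOpen V)
    (P : PrimeSpectrum Γ(B, V)) (h : FibV f L (hV.fromSpec P)) :
    CB.H1Zero (pV f hV) ((Scheme.Modules.pullback (f ⁻¹ᵁ V).ι).obj L) P := by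
  obtain ⟨K, hK, t, C', g, f', ht, sq, hs⟩ := h
  obtain ⟨φ, rfl⟩ := exists_eq_map hV t (fun x => by
    rw [ht x]
    have := hV.range_fromSpec
    have h2 : hV.fromSpec P ∈ Set.range hV.fromSpec.base := ⟨P, rfl⟩
    rw [this] at h2
    exact h2)
  obtain ⟨j, rfl, H⟩ := isPullback_j f hV φ sq
  refine ⟨K, hK, φ.hom.toAlgebra, _, j, _, ?_, H, ?_⟩
  · have h1 := ht ⟨⊥, Ideal.isPrime_bot⟩
    rw [Scheme.Hom.comp_apply] at h1
    have h2 : Function.Injective hV.fromSpec.base := hV.fromSpec.isOpenEmbedding.injective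
    have h3 : (Spec.map φ) ⟨⊥, Ideal.isPrime_bot⟩ = P := h2 h1
    rw [← h3]
    rfl
  · exact subsingleton_HH_of_iso ((Scheme.Modules.pullbackComp j (f ⁻¹ᵁ V).ι).app L) 1 hs

/-- **Base change for `f_* L`** when `H¹` vanishes on the fibres. -/
theorem good (f : C ⟶ B) [IsProper f] [Flat f] [LocallyOfFinitePresentation f] (L : C.Modules)
    (hL : PicF.IsInvertible L) (h : ∀ b, FibV f L b) {V : B.Opens} (hV : IsAffineOpen V) :
    Good f L hV := by
  let _ : ((f ⁻¹ᵁ V).toScheme).Over (Spec (CommRingCat.of Γ(B, V))) := ⟨pV f hV⟩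
  have i1 : IsProper (pV f hV) := inferInstance
  have i2 : LocallyOfFinitePresentation (pV f hV) := inferInstance
  have i3 : Flat (pV f hV) := inferInstance
  have i1' : IsProper ((f ⁻¹ᵁ V).toScheme ↘ Spec (CommRingCat.of Γ(B, V))) := i1
  have i2' : LocallyOfFinitePresentation ((f ⁻¹ᵁ V).toScheme ↘ Spec (CommRingCat.of Γ(B, V))) := i2
  have hL' : PicF.IsInvertible ((Scheme.Modules.pullback (f ⁻¹ᵁ V).ι).obj L) :=
    isInvertible_pullback _ hL
  have hfp : CohB1.IsFP ((Scheme.Modules.pullback (f ⁻¹ᵁ V).ι).obj L) :=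
    Desc.FinLocFreeSections.isFP_of_isFinLocFree (Ega2.QCohLocal.isFinLocFree_of_rank
      (Ega2.QCohLocal.isFinLocFreeOfRank_one_iff.2 hL'))
  obtain ⟨Z⟩ := CB.exists_hz (A := Γ(B, V)) (f ⁻¹ᵁ V).toScheme
    ((Scheme.Modules.pullback (f ⁻¹ᵁ V).ι).obj L) hfp
    (Ega3B.NearFibre.isFlatOver_of_isInvertible (pV f hV) hL') (fun P _ => h1Zero f L hV P (h _))
  exact good_of_hz f L hV (Ega1.QcqsPush.isQCoh_pushforward f _ (Ega2.QCohLocal.isQCoh_of_isInvertible hL)) Z

end K980.FibV
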