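import Groth.Agent.Sga67.PnGlobal
import Groth.Agent.Fano.K387.FormProj

/-!
# The monomials as a basis of the global sections of `O(d)` on projective space

* `mon R j`: the monomials of degree `d`, indexed by `Fin (mnum r d + 1)`.
* `mon_span`: they span the forms of degree `d`.
* `bijective_mon`: they form a basis of the global sections of `O(d)`.
-/

set_option autoImplicit false
universe u
open CategoryTheory CategoryTheory.Limits AlgebraicGeometry TopologicalSpace Opposite

namespace K980.MonSec

open Groth.Agent.Fdesc.LocGen Groth.Agent K387.FormProj Sga67.PnGlobal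

attribute [local instance] MvPolynomial.gradedAlgebra

/-- The number of monomials, minus one. -/
def mnum (r d : ℕ) : ℕ := (d + r).choose r - 1

theorem mnum_succ (r d : ℕ) : mnum r d + 1 = (d + r).choose r :=
  Nat.sub_add_cancel (Nat.choose_pos (Nat.le_add_left r d))

/-- An enumeration of the exponents. -/
noncomputable def eqv (r d : ℕ) : Fin (mnum r d + 1) ≃ Exp r d :=
  Fintype.equivOfCardEq (by rw [Fintype.card_fin, mnum_succ, card_exp])

variable {r d : ℕ} (R : Type u) [CommRing R]

/-- The monomials of degree `d`. -/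
noncomputable def mon (j : Fin (mnum r d + 1)) : MvPolynomial (Fin (r + 1)) R := (mono R (eqv r d j)).1

theorem mon_mem (j : Fin (mnum r d + 1)) : mon R j ∈ CohB1.polyGrading r R d := (mono R (eqv r d j)).2

theorem mon_span : CohB1.polyGrading r R d ≤ Submodule.span R (Set.range (mon (r := r) (d := d) R)) := by
  intro P hP
  rw [P.as_sum]
  refine Submodule.sum_mem _ fun s hs => ?_
  have h1 : s.degree = d := by
    have := (MvPolynomial.mem_homogeneousSubmodule _ _).mp hP (MvPolynomial.mem_support_iff.mp hs)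
    rw [Finsupp.degree_eq_weight_one]
    exact this
  have h2 : ∑ i, s i = d := by rw [← Finsupp.degree_eq_sum]; exact h1
  obtain ⟨j, hj⟩ := (eqv r d).surjective ⟨s, h2⟩
  have h3 : MvPolynomial.monomial s (P.coeff s) = P.coeff s • mon R j := by
    have h4 : s = Finsupp.equivFunOnFinite.symm (⇑s) := Finsupp.ext fun i => rfl
    have h5 : mon R j = MvPolynomial.monomial s 1 := by
      rw [mon, hj, mono]
      exact congrArg (fun t => MvPolynomial.monomial t (1 : R)) h4.symm
    rw [h5, MvPolynomial.smul_eq_C_mul, MvPolynomial.C_mul_monomial, mul_one]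
  rw [h3]
  exact Submodule.smul_mem _ _ (Submodule.subset_span ⟨j, rfl⟩)

/-- The monomials as sections of `O(d)`. -/
noncomputable abbrev msc (j : Fin (mnum r d + 1)) : Γ(Twist.twistProjSpace r R (d : ℤ), ⊤) :=
  gl ⟨mon R j, mon_mem R j⟩

/-- **The monomials of degree `d` are a basis of the global sections of `O(d)`.** -/
theorem bijective_mon :
    Function.Bijective (fun a : Fin (mnum r d + 1) → Γ(Spec (CommRingCat.of R), ⊤) =>
      (∑ i, (CohB1.ProjSpace.toSpec r R).appTop (a i) • msc R i :
        Γ(Twist.twistProjSpace r R (d : ℤ), ⊤))) := by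
  let ρ : (Fin (mnum r d + 1) → Γ(Spec (CommRingCat.of R), ⊤)) ≃ (Exp r d → R) :=
    Equiv.arrowCongr (eqv r d) (Scheme.ΓSpecIso (CommRingCat.of R)).commRingCatIsoToRingEquiv.toEquiv
  have h1 := (lin_bijective (r := r) (n := d) R).comp ρ.bijective
  have key : (fun a : Fin (mnum r d + 1) → Γ(Spec (CommRingCat.of R), ⊤) =>
      (∑ i, (CohB1.ProjSpace.toSpec r R).appTop (a i) • msc R i :
        Γ(Twist.twistProjSpace r R (d : ℤ), ⊤))) = fun a => lin R (ρ a) := ?_
  · rw [key]
    exact h1
  funext a
  rw [lin_eq]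
  refine Eq.trans ?_ (Equiv.sum_comp (eqv r d) _)
  refine Finset.sum_congr rfl fun i _ => ?_
  have h2 : ρ a (eqv r d i) = (Scheme.ΓSpecIso (CommRingCat.of R)).hom (a i) := by
    change (Scheme.ΓSpecIso (CommRingCat.of R)).hom (a ((eqv r d).symm (eqv r d i))) = _
    rw [Equiv.symm_apply_apply]
  rw [h2]
  have h3 : (CohB1.ProjSpace.toSpec r R).appTop (a i) =
      Sga67.PnGlobal.gl (r := r) R ((Scheme.ΓSpecIso (CommRingCat.of R)).hom (a i)) := by
    change _ = (CohB1.ProjSpace.toSpec r R).appTop ((Scheme.ΓSpecIso (CommRingCat.of R)).inv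
      ((Scheme.ΓSpecIso (CommRingCat.of R)).hom (a i)))
    rw [Iso.hom_inv_id_apply]
  rw [h3]
  rfl

end K980.MonSec
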