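import Groth.Agent.ProjBd.K980.MonSec
import Groth.Agent.ProjBd.K980.FibV
import Groth.Agent.ProjBd.K980.BCIso
import Groth.Agent.ProjBd.K42.FibPB
import Groth.Agent.AlgSt.K502.CI

/-!
# Families with fibres `(P^r, O(d))`

For `f : C ⟶ B` proper, flat, locally of finite presentation and `L` invertible on `C` whose geometric fibres
are `(P^r, O(d))` (`FibPd`), `d ≥ 1`:
* `isFinLocFreeOfRank`: `f_* L` is locally free of rank `(d + r).choose r`.
* `epi_counit`: `f^* f_* L ⟶ L` is an epimorphism.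
* `isClosedImmersion`: the classifying morphism to the projective bundle of `f_* L` is a closed immersion.
-/

set_option autoImplicit false
universe u
open CategoryTheory CategoryTheory.Limits AlgebraicGeometry TopologicalSpace Opposite TensorProduct

namespace K980.VerFib

open Groth.Agent.Fdesc.LocGen Groth.Agent Groth.Agent.Krr.H484.PBTransport Groth.Agent.Krr.H484.PullExt
open Groth.Agent.Ega2.BasSec K42 K42.RHZ K42.FibPn K42.FibPB K387.FormProj K390.PnSec MonSec FibV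

attribute [local instance] MvPolynomial.gradedAlgebra

variable {C B X : Scheme.{u}}

/-- Over a field extension of the residue field of `b`, the fibre of `(C, L)` is `(P^r, O(d))`. -/
def FibPd (f : C ⟶ B) (L : C.Modules) (r d : ℕ) (b : B) : Prop :=
  ∃ (K : Type u) (_ : Field K) (t : Spec (CommRingCat.of K) ⟶ B) (g : CohB1.ProjSpace r K ⟶ C),
    (∀ x, t x = b) ∧ IsPullback g (CohB1.ProjSpace.toSpec r K) f t ∧
      Nonempty ((Scheme.Modules.pullback g).obj L ≅ Twist.twistProjSpace r K (d : ℤ))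

theorem fibV {f : C ⟶ B} {L : C.Modules} {r d : ℕ} {b : B} (h : FibPd f L r d b) : FibV f L b := by
  obtain ⟨K, hK, t, g, ht, sq, ⟨v⟩⟩ := h
  exact ⟨K, hK, t, _, g, _, ht, sq, subsingleton_HH_of_iso v 1
    (Groth.Agent.S0844.result K r d 1 (by simp) (by omega))⟩

section Fibre

variable {f : C ⟶ B} {L : C.Modules} {r d : ℕ} {V : B.Opens} {hV : IsAffineOpen V} (G : Good f L hV)
  (hE : Coh.IsQCoh ((Scheme.Modules.pushforward f).obj L))
  {K : Type u} [Field K] {φ : Γ(B, V) ⟶ CommRingCat.of K} {g : CohB1.ProjSpace r K ⟶ C}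
  (sq : IsPullback g (CohB1.ProjSpace.toSpec r K) f (Spec.map φ ≫ hV.fromSpec))
  (v : (Scheme.Modules.pullback g).obj L ≅ Twist.twistProjSpace r K (d : ℤ))

include G hE in
theorem exists_basis : ∃ m : Fin (mnum r d + 1) → Γ((Scheme.Modules.pullback (Spec.map φ ≫ hV.fromSpec)).obj
      ((Scheme.Modules.pushforward f).obj L), ⊤),
    IsBas m ∧ ∀ i, v.hom.app ⊤ ((q0 (L := L) sq.w).app ⊤
      (pullSec (CohB1.ProjSpace.toSpec r K) (U := ⊤) (m i))) = msc K i := by
  have h1 := G.bc _ φ _ g _ sq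
  have h2 : Function.Bijective (v.hom.app ⊤) := ConcreteCategory.bijective_of_isIso _
  have h3 := h2.comp h1
  choose m hm using fun i : Fin (mnum r d + 1) => h3.2 (msc K i)
  refine ⟨m, ?_, hm⟩
  refine isBas_of_bijective (FormalA.PullbackQC.isQCoh_pullback _ _ hE) (isAffineOpen_top _) ?_
  let Θ : Γ((Scheme.Modules.pullback (Spec.map φ ≫ hV.fromSpec)).obj ((Scheme.Modules.pushforward f).obj L), ⊤) →+
      Γ(Twist.twistProjSpace r K (d : ℤ), ⊤) :=
    AddMonoidHom.mk' (fun x => v.hom.app ⊤ ((q0 (L := L) sq.w).app ⊤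
      (pullSec (CohB1.ProjSpace.toSpec r K) (U := ⊤) x)))
      (fun a b => by
        change v.hom.app ⊤ ((q0 (L := L) sq.w).app ⊤
          (pullSec (CohB1.ProjSpace.toSpec r K) (U := ⊤) (a + b))) = _
        rw [pullSec_add]
        refine Eq.trans (congrArg _ (map_add ((q0 (L := L) sq.w).app ⊤).hom _ _)) ?_
        exact map_add (v.hom.app ⊤).hom _ _)
  have hΘ : Function.Bijective Θ := h3
  have hΘs : ∀ (a : Γ(Spec (CommRingCat.of K), ⊤)) x, Θ (a • x) = (CohB1.ProjSpace.toSpec r K).appTop a • Θ x := by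
    intro a x
    change v.hom.app ⊤ ((q0 (L := L) sq.w).app ⊤
      (pullSec (CohB1.ProjSpace.toSpec r K) (U := ⊤) (a • x))) = _
    rw [pullSec_smul]
    refine Eq.trans (congrArg _ ((q0 (L := L) sq.w).app_smul _ _)) ?_
    exact v.hom.app_smul _ _
  rw [← Function.Bijective.of_comp_iff' hΘ]
  convert bijective_mon (r := r) (d := d) K using 1
  funext a
  change Θ (∑ i, a i • m i) = _
  rw [map_sum]
  refine Finset.sum_congr rfl fun i _ => ?_
  rw [hΘs]
  congr 1
  exact hm i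

/-- The Veronese embedding. -/
noncomputable abbrev Ver (r : ℕ) {d : ℕ} (hd : 0 < d) (K : Type u) [Field K] :
    CohB1.ProjSpace r K ⟶ CohB1.ProjSpace (mnum r d) K :=
  K387.FormProj.V hd (mon K) (mon_mem K) (mon_span K)

theorem ver_toSpec {d : ℕ} (hd : 0 < d) :
    Ver r hd K ≫ CohB1.ProjSpace.toSpec (mnum r d) K = CohB1.ProjSpace.toSpec r K :=
  V_toSpec hd (mon K) (mon_mem K) (mon_span K)

theorem givenBy_ver {d : ℕ} (hd : 0 < d) :
    GivenBy (Ver r hd K) (Twist.twistProjSpace r K (d : ℤ)) (fun j => msc K j) :=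
  givenBy_V hd (mon K) (mon_mem K) (mon_span K)

/-- Change of the module in the compatibility condition. -/
theorem comp_of_iso {P T : Scheme.{u}} {π : P ⟶ X} {E E' : X.Modules} (ε : E ≅ E') {O1 : P.Modules}
    {q : (Scheme.Modules.pullback π).obj E ⟶ O1} {g : T ⟶ X} {L : T.Modules}
    {s' : (Scheme.Modules.pullback g).obj E' ⟶ L} {h : T ⟶ P}
    (H : PBTools.Comp π q g ((Scheme.Modules.pullback g).map ε.hom ≫ s') h) :
    PBTools.Comp π ((Scheme.Modules.pullback π).map ε.inv ≫ q) g s' h := by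
  obtain ⟨hg, e, he⟩ := H
  refine ⟨hg, e, ?_⟩
  rw [compat_iff] at he ⊢
  intro V m
  have h1 := he V (ε.inv.app V m)
  have h2' : ∀ n : Γ(E, V), ((Scheme.Modules.pullback g).map ε.hom ≫ s').app (g ⁻¹ᵁ V) (pullSec g n) =
      s'.app (g ⁻¹ᵁ V) (pullSec g (ε.hom.app V n)) := fun n => by
    rw [← pullback_map_pullSec]
    rfl
  have h2 := h2' (ε.inv.app V m)
  have h3 : ε.hom.app V (ε.inv.app V m) = m := congr(($(ε.inv_hom_id)).app V m)
  have h4 : ((Scheme.Modules.pullback π).map ε.inv ≫ q).app (π ⁻¹ᵁ V) (pullSec π m) =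
      q.app (π ⁻¹ᵁ V) (pullSec π (ε.inv.app V m)) := by
    rw [← pullback_map_pullSec]
    rfl
  rw [h2, h3] at h1
  rw [h4]
  exact h1

/-- Composition in the compatibility condition. -/
theorem comp_trans {P₁ P₂ T : Scheme.{u}} {E : X.Modules} {π₁ : P₁ ⟶ X} {O₁ : P₁.Modules}
    {q₁ : (Scheme.Modules.pullback π₁).obj E ⟶ O₁} {π₂ : P₂ ⟶ X} {O₂ : P₂.Modules}
    {q₂ : (Scheme.Modules.pullback π₂).obj E ⟶ O₂} {g : T ⟶ X} {L : T.Modules}
    {s : (Scheme.Modules.pullback g).obj E ⟶ L} {h : P₁ ⟶ P₂} {k : T ⟶ P₁}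
    (H : PBTools.Comp π₂ q₂ π₁ q₁ h) (H' : PBTools.Comp π₁ q₁ g s k) : PBTools.Comp π₂ q₂ g s (k ≫ h) := by
  obtain ⟨hg, e, he⟩ := H
  obtain ⟨hg', e', he'⟩ := H'
  have hg'' : (k ≫ h) ≫ π₂ = g := by rw [Category.assoc, hg, hg']
  refine ⟨hg'', (Scheme.Modules.pullbackComp k h).symm.app O₂ ≪≫ (Scheme.Modules.pullback k).mapIso e ≪≫ e', ?_⟩
  rw [compat_iff] at he he' ⊢
  intro V m
  have h1 := he V m
  have h2 := he' V m
  generalize q₂.app (π₂ ⁻¹ᵁ V) (pullSec π₂ m) = y at h1 ⊢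
  have a1 := comp_inv_pullSec k h y
  have a2 := pullback_map_pullSec k e.hom (pullSec h y)
  have a3 : ((Scheme.Modules.pullbackComp k h).symm.app O₂ ≪≫ (Scheme.Modules.pullback k).mapIso e ≪≫
      e').hom.app ((k ≫ h) ⁻¹ᵁ (π₂ ⁻¹ᵁ V)) (pullSec (k ≫ h) y) =
      e'.hom.app (k ⁻¹ᵁ (h ⁻¹ᵁ (π₂ ⁻¹ᵁ V))) (pullSec k (e.hom.app (h ⁻¹ᵁ (π₂ ⁻¹ᵁ V)) (pullSec h y))) :=
    congrArg (e'.hom.app _) ((congrArg _ a1).trans a2)
  refine a3.trans ?_
  rw [h1]
  have a4 := res_pullSec k (preimage_le hg V : (h ≫ π₂) ⁻¹ᵁ V ≤ π₁ ⁻¹ᵁ V) (q₁.app (π₁ ⁻¹ᵁ V) (pullSec π₁ m))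
  refine (congrArg (e'.hom.app (k ⁻¹ᵁ (h ⁻¹ᵁ (π₂ ⁻¹ᵁ V)))) a4.symm).trans ?_
  refine (app_res e'.hom (k.preimage_mono (preimage_le hg V : (h ≫ π₂) ⁻¹ᵁ V ≤ π₁ ⁻¹ᵁ V))
    (pullSec k (q₁.app (π₁ ⁻¹ᵁ V) (pullSec π₁ m)))).trans ?_
  refine (congrArg (res L _) h2).trans ?_
  exact res_res _ _ _ _

theorem secs_map {n : ℕ} {K : Type u} [Field K] {E : (Spec (CommRingCat.of K)).Modules} (m : Fin n → Γ(E, ⊤))
    {T : Scheme.{u}} (g : T ⟶ Spec (CommRingCat.of K)) {N : T.Modules} (s : (Scheme.Modules.pullback g).obj E ⟶ N)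
    (j : Fin n) : Krr.H484.FreeSec.secs g ((Scheme.Modules.pullback g).map (homOfFam m) ≫ s) j =
      s.app ⊤ (pullSec g (U := ⊤) (m j)) := by
  have h4 : ((Scheme.Modules.pullback g).map (homOfFam m)).app ⊤
      (pullTop g (Krr.H484.FreeSec.bas _ n j)) = pullSec g (U := ⊤) (m j) := by
    refine (pullback_map_pullSec g (homOfFam m) (U := ⊤) _).trans ?_
    congr 1
    have h5 := homOfFam_stdSec m ⊤ j
    rw [res_refl] at h5
    exact h5
  exact congrArg (fun x => s.app ⊤ x) h4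

include G hE v in
/-- The fibre of `f^* f_* L ⟶ L` is an epimorphism. -/
theorem epi_q0 (hd : 0 < d) : Epi (q0 (L := L) sq.w) := by
  obtain ⟨m, hm, hv⟩ := exists_basis G hE sq v
  have h1 : IsIso (homOfFam m) := (isIso_homOfFam_iff m).2 hm
  have h2 : Epi ((Scheme.Modules.pullback (CohB1.ProjSpace.toSpec r K)).map (homOfFam m) ≫
      q0 (L := L) sq.w ≫ v.hom) := by
    apply Krr.H484.FreeSec.epi_of_genLocus
    have h3 : ∀ j, Krr.H484.FreeSec.secs (CohB1.ProjSpace.toSpec r K)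
        ((Scheme.Modules.pullback (CohB1.ProjSpace.toSpec r K)).map (homOfFam m) ≫
          q0 (L := L) sq.w ≫ v.hom) j = msc K j := fun j => by
      rw [secs_map, ← hv j]
      rfl
    simp only [h3]
    exact (givenBy_ver hd).iSup_genLocus
  rw [epi_comp_iff_of_epi] at h2
  have h5 : q0 (L := L) sq.w = (q0 (L := L) sq.w ≫ v.hom) ≫ v.inv := by simp
  rw [h5]
  exact epi_comp _ _

include G hE v in
/-- The Veronese embedding is the classifying morphism of the fibre. -/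
theorem exists_comp (hd : 0 < d) : ∃ q : (Scheme.Modules.pullback (CohB1.ProjSpace.toSpec (mnum r d) K)).obj
      ((Scheme.Modules.pullback (Spec.map φ ≫ hV.fromSpec)).obj ((Scheme.Modules.pushforward f).obj L)) ⟶
        Twist.twistProjSpace (mnum r d) K 1,
    KRR.IsProjBundle (CohB1.ProjSpace.toSpec (mnum r d) K) ((Scheme.Modules.pullback
      (Spec.map φ ≫ hV.fromSpec)).obj ((Scheme.Modules.pushforward f).obj L))
        (Twist.twistProjSpace (mnum r d) K 1) q ∧
    PBTools.Comp (CohB1.ProjSpace.toSpec (mnum r d) K) q (CohB1.ProjSpace.toSpec r K)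
      (q0 (L := L) sq.w) (Ver r hd K) := by
  obtain ⟨m, hm, hv⟩ := exists_basis G hE sq v
  have h1 : IsIso (homOfFam m) := (isIso_homOfFam_iff m).2 hm
  refine ⟨_, of_iso (asIso (homOfFam m)) (Krr.H484.PnFree.isProjBundle_spec (mnum r d) K),
    comp_of_iso (asIso (homOfFam m)) ?_⟩
  obtain ⟨τ, hτ⟩ := givenBy_ver (r := r) (K := K) hd
  refine ⟨ver_toSpec hd, τ ≪≫ v.symm, ?_⟩
  refine (Krr.H484.PnFree.compat_iff _ _ _ _ _ _ _).2 fun j => ?_
  rw [asIso_hom, secs_map]
  have h2 : pullTop (Ver r hd K) (Krr.H484.PnHom.coordSec (mnum r d) K j) =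
      Groth.Agent.Ega2.H295.PnCoord.tsec (Ver r hd K) j := by
    rw [coordSec_eq]
    rfl
  rw [h2]
  have h3 : (τ ≪≫ v.symm).hom.app ⊤ (Groth.Agent.Ega2.H295.PnCoord.tsec (Ver r hd K) j) =
      v.inv.app ⊤ (τ.hom.app ⊤ (Groth.Agent.Ega2.H295.PnCoord.tsec (Ver r hd K) j)) := rfl
  rw [h3, hτ j]
  change v.inv.app ⊤ (msc K j) = _
  rw [← hv j]
  exact congr(($(v.hom_inv_id)).app ⊤ ((q0 (L := L) sq.w).app ⊤
    (pullSec (CohB1.ProjSpace.toSpec r K) (U := ⊤) (m j))))

end Fibre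

section Global

/-- The data on the fibre over a point of an affine open. -/
theorem exists_fibre {f : C ⟶ B} {L : C.Modules} {r d : ℕ} {V : B.Opens} (hV : IsAffineOpen V) {b : B}
    (hb : b ∈ V) (h : FibPd f L r d b) :
    ∃ (K : Type u) (_ : Field K) (φ : Γ(B, V) ⟶ CommRingCat.of K) (g : CohB1.ProjSpace r K ⟶ C),
      (∀ x, (Spec.map φ ≫ hV.fromSpec) x = b) ∧
      IsPullback g (CohB1.ProjSpace.toSpec r K) f (Spec.map φ ≫ hV.fromSpec) ∧
      Nonempty ((Scheme.Modules.pullback g).obj L ≅ Twist.twistProjSpace r K (d : ℤ)) := by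
  obtain ⟨K, hK, t, g, ht, sq, e⟩ := h
  obtain ⟨φ, rfl⟩ := exists_eq_map hV t (fun x => by rw [ht x]; exact hb)
  exact ⟨K, hK, φ, g, ht, sq, e⟩

variable (f : C ⟶ B) [IsProper f] [Flat f] [LocallyOfFinitePresentation f] (L : C.Modules)
    (hL : PicF.IsInvertible L) (r d : ℕ) (h : ∀ b, FibPd f L r d b)

include hL h in
theorem good' {V : B.Opens} (hV : IsAffineOpen V) : Good f L hV :=
  FibV.good f L hL (fun b => fibV (h b)) hV

include hL h in
/-- `f_* L` is locally free of rank `(d + r).choose r`. -/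
theorem isFinLocFreeOfRank :
    FlatMod.IsFinLocFreeOfRank ((d + r).choose r) ((Scheme.Modules.pushforward f).obj L) := by
  have hE := qcohE f L hL
  refine K582.RankStrat.isFinLocFreeOfRank_of_cover _ hE fun b => ?_
  obtain ⟨V, hV, hb⟩ := Groth.Agent.Divis.StalkMod.exists_affine b
  have G := good' f L hL r d h hV
  refine ⟨V, hb, hV, G.fin, G.proj, fun p => ?_⟩
  have hfin := G.fin
  have hproj := G.proj
  rw [Groth.Agent.Grpsch.FlatIdeal.rankAtStalk_eq_fibRank, ← K582.RankStrat.fib_fromSpec _ hE hV p]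
  have hpV : hV.fromSpec p ∈ V := by
    have := hV.range_fromSpec
    have h2 : hV.fromSpec p ∈ Set.range hV.fromSpec.base := ⟨p, rfl⟩
    rw [this] at h2
    exact h2
  obtain ⟨K, hK, φ, g, ht, sq, ⟨v⟩⟩ := exists_fibre hV hpV (h _)
  obtain ⟨m, hm, -⟩ := exists_basis G hE sq v
  have h1 : FlatMod.IsFinLocFreeOfRank ((d + r).choose r)
      ((Scheme.Modules.pullback (Spec.map φ ≫ hV.fromSpec)).obj ((Scheme.Modules.pushforward f).obj L)) := by
    rw [← mnum_succ]
    exact (isFinLocFreeOfRank_iff _ _).2 fun x => ⟨⊤, m, trivial, hm⟩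
  let x : Spec (CommRingCat.of K) := ⟨⊥, Ideal.isPrime_bot⟩
  rw [← ht x, ← K582.RankStrat.fib_pullback _ _ hE]
  exact K582.RankStrat.fib_eq_of_isFinLocFreeOfRank _ (FormalA.PullbackQC.isQCoh_pullback _ _ hE) h1 x

include hL h in
/-- `f^* f_* L ⟶ L` is an epimorphism. -/
theorem epi_counit (hd : 0 < d) : Epi ((Scheme.Modules.pullbackPushforwardAdjunction f).counit.app L) := by
  have hE := qcohE f L hL
  let q := (Scheme.Modules.pullbackPushforwardAdjunction f).counit.app L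
  have hN : Coh.IsQCoh (cokernel q) := PerfA.QCohSerre.isQCoh_cokernel q
    (FormalA.PullbackQC.isQCoh_pullback f _ hE) (Ega2.QCohLocal.isQCoh_of_isInvertible hL)
  have hft : CohB1.IsFT (cokernel q) := Dcoh.FTFP.isFT_of_epi_finLocFree
    (Ega2.QCohLocal.isFinLocFree_of_rank (Ega2.QCohLocal.isFinLocFreeOfRank_one_iff.2 hL)) (cokernel.π q)
  have hs : CohB1.support (cokernel q) = ∅ := by
    rw [Set.eq_empty_iff_forall_notMem]
    intro c hc
    obtain ⟨V, hV, hb⟩ := Groth.Agent.Divis.StalkMod.exists_affine (f c)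
    have G := good' f L hL r d h hV
    obtain ⟨K, hK, φ, g, ht, sq, ⟨v⟩⟩ := exists_fibre hV hb (h _)
    have hepi : Epi (q0 (L := L) sq.w) := epi_q0 G hE sq v hd
    have h1 : Epi ((Scheme.Modules.pullback g).map q) := by
      have h2 : Epi ((Scheme.Modules.pullbackComp (CohB1.ProjSpace.toSpec r K)
          (Spec.map φ ≫ hV.fromSpec)).hom.app ((Scheme.Modules.pushforward f).obj L) ≫
          (Scheme.Modules.pullbackCongr sq.w.symm).hom.app ((Scheme.Modules.pushforward f).obj L) ≫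
          (Scheme.Modules.pullbackComp g f).inv.app ((Scheme.Modules.pushforward f).obj L) ≫
            (Scheme.Modules.pullback g).map q) := hepi
      rw [epi_comp_iff_of_epi, epi_comp_iff_of_epi, epi_comp_iff_of_epi] at h2
      exact h2
    have h3 : (Scheme.Modules.pullback g).map (cokernel.π q) = 0 := by
      rw [← cancel_epi ((Scheme.Modules.pullback g).map q), ← Functor.map_comp, cokernel.condition]
      simp
    have h4 : IsZero ((Scheme.Modules.pullback g).obj (cokernel q)) := by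
      have : Epi ((Scheme.Modules.pullback g).map (cokernel.π q)) := inferInstance
      exact IsZero.of_epi_eq_zero _ h3
    obtain ⟨c', hc', -⟩ := Scheme.exists_preimage_of_isPullback sq c ⟨⊥, Ideal.isPrime_bot⟩ (ht _).symm
    have h5 := Groth.Agent.S4357.result g (cokernel q) hft
    have h6 := CohqB.DevSupport.support_eq_empty_of_isZero h4
    rw [h6] at h5
    have h7 : c' ∈ g.base ⁻¹' CohB1.support (cokernel q) := by
      rw [Set.mem_preimage, hc']
      exact hc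
    rw [← h5] at h7
    exact h7
  have h0 := CohqB.DevSupport.isZero_of_support_eq_empty hs
  exact Preadditive.epi_of_isZero_cokernel _ h0

include hL h in
/-- **The classifying morphism is a closed immersion.** -/
theorem isClosedImmersion (hd : 0 < d) {P : Scheme.{u}} {π : P ⟶ B} {O1 : P.Modules}
    {q : (Scheme.Modules.pullback π).obj ((Scheme.Modules.pushforward f).obj L) ⟶ O1}
    (PB : KRR.IsProjBundle π ((Scheme.Modules.pushforward f).obj L) O1 q) (c : C ⟶ P)
    (hc : PBTools.Comp π q f ((Scheme.Modules.pullbackPushforwardAdjunction f).counit.app L) c) :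
    IsClosedImmersion c := by
  have hE := qcohE f L hL
  have hrk := isFinLocFreeOfRank f L hL r d h
  rw [← mnum_succ] at hrk
  have hπ : IsProper π := Krr.H483.PBTop.isProper hrk PB
  obtain ⟨hg, -⟩ := id hc
  have hcf : IsProper (c ≫ π) := by rw [hg]; infer_instance
  obtain ⟨U, hU⟩ := K502.CI.exists_opens_isClosedImmersion c π
  have hid := hU B C P (𝟙 B) c π (𝟙 C) (𝟙 P) (IsPullback.id_horiz c) (IsPullback.id_horiz π)
  refine hid.2 ?_
  rintro b -
  obtain ⟨V, hV, hb⟩ := Groth.Agent.Divis.StalkMod.exists_affine b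
  have G := good' f L hL r d h hV
  obtain ⟨K, hK, φ, g, ht, sq, ⟨v⟩⟩ := exists_fibre hV hb (h _)
  obtain ⟨qV, PBV, hcV⟩ := exists_comp G hE sq v hd
  have hsq := IsPullback.of_hasPullback π (Spec.map φ ≫ hV.fromSpec)
  have PB' := baseChange hsq PB
  -- the fibre of `c`
  have w1 : (g ≫ c) ≫ π = CohB1.ProjSpace.toSpec r K ≫ Spec.map φ ≫ hV.fromSpec := by
    rw [Category.assoc, hg]
    exact sq.w
  let h' : CohB1.ProjSpace r K ⟶ pullback π (Spec.map φ ≫ hV.fromSpec) :=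
    pullback.lift (g ≫ c) (CohB1.ProjSpace.toSpec r K) w1
  have h1 : h' ≫ pullback.snd π (Spec.map φ ≫ hV.fromSpec) = CohB1.ProjSpace.toSpec r K :=
    pullback.lift_snd _ _ _
  have h2 : h' ≫ pullback.fst π (Spec.map φ ≫ hV.fromSpec) = g ≫ c := pullback.lift_fst _ _ _
  have h3 : PBTools.Comp (pullback.snd π (Spec.map φ ≫ hV.fromSpec)) (bcq hsq.w q)
      (CohB1.ProjSpace.toSpec r K) (q0 (L := L) sq.w) h' := PBComp.comp_bc hsq.w hc sq.w h' h1 h2
  have sq3 : IsPullback g h' c (pullback.fst π (Spec.map φ ≫ hV.fromSpec)) := by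
    refine IsPullback.of_bot (h₃₁ := Spec.map φ ≫ hV.fromSpec) ?_ h2.symm hsq
    rw [h1, hg]
    exact sq
  have hci : IsClosedImmersion h' := by
    obtain ⟨κ, hκ⟩ := Krr.H484.PBUnique.exists_iso PBV PB'
    have h4 : PBTools.Comp (pullback.snd π (Spec.map φ ≫ hV.fromSpec)) (bcq hsq.w q)
      (CohB1.ProjSpace.toSpec r K) (q0 (L := L) sq.w) (Ver r hd K ≫ κ.hom) := comp_trans hκ hcV
    have hLi : FlatMod.IsFinLocFreeOfRank 1 ((Scheme.Modules.pullback g).obj L) :=
      Groth.Agent.Ega2.QCohLocal.isFinLocFreeOfRank_one_iff.2 (isInvertible_pullback g hL)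
    have h6 : h' = Ver r hd K ≫ κ.hom := (PB'.univ _ (CohB1.ProjSpace.toSpec r K) _ hLi
      (q0 (L := L) sq.w) (epi_q0 G hE sq v hd)).unique h3 h4
    rw [h6]
    infer_instance
  have h5 := (hU _ _ _ (Spec.map φ ≫ hV.fromSpec) h' (pullback.snd π (Spec.map φ ≫ hV.fromSpec)) g
    (pullback.fst π (Spec.map φ ≫ hV.fromSpec)) sq3 hsq).1 hci
  exact h5 ⟨⟨⊥, Ideal.isPrime_bot⟩, ht _⟩

end Global

end K980.VerFib
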